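import Mathlib
import Cfsg.Agent.Lib.helper7.StN
import Cfsg.Agent.Lib.helper17.SLP.Defs

/-!
# Project SLN (designer helper1): S2290 (10u) — `PSL_n(F)` has a presentation with 2 generators and at most 80 relators —
and, in a second phase, S2288.

Definitions: Steinberg systems `StSys`, the three even permutations `c3 t23 rho` of `Fin (M+4)`, the block embeddings
`emb23 : SL₂ → SL₃`, `betaM : SL₃ → SL_(M+4)`, the permutation matrices `alphaM : A_(M+4) → SL_(M+4)`, the gluing
hypothesis `Glue` and the root maps `gX` built from a pair of homomorphisms `α : A_(M+4) → G`, `β : SL₃(F) → G`.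
-/

set_option autoImplicit false

namespace Cfsg.Agent.Lib.Helper1.SLN

open Matrix Equiv

universe u v

/-! ## Steinberg systems (the relators of `helper7.St.rels`: S2401 is the Steinberg presentation of `SL_n`, `n ≥ 3`) -/

/-- A Steinberg system of type `A_(n-1)` in a group `G`: additivity, commuting and the commutator formula
(no rank-one relation, no condition on `X i i`). -/
structure StSys {F : Type u} [Field F] {n : ℕ} {G : Type v} [Group G] (X : Fin n → Fin n → F → G) : Prop where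
  add : ∀ i j, i ≠ j → ∀ s t : F, X i j s * X i j t = X i j (s + t)
  comm : ∀ i j k l, i ≠ j → k ≠ l → i ≠ l → j ≠ k → ∀ s t : F, X i j s * X k l t = X k l t * X i j s
  cmm : ∀ i j k, i ≠ j → j ≠ k → i ≠ k → ∀ s t : F,
    X i j s * X j k t * (X i j s)⁻¹ * (X j k t)⁻¹ = X i k (s * t)

/-! ## Matrices -/

section Mat

variable {F : Type u} [Field F]

/-- `xU t = [[1,t],[0,1]]` as a Mathlib transvection. -/
def xU (t : F) : Matrix.SpecialLinearGroup (Fin 2) F :=
  Matrix.SpecialLinearGroup.transvection (i := (0 : Fin 2)) (j := 1) (by decide) t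

/-- `xL t = [[1,0],[t,1]]`. -/
def xL (t : F) : Matrix.SpecialLinearGroup (Fin 2) F :=
  Matrix.SpecialLinearGroup.transvection (i := (1 : Fin 2)) (j := 0) (by decide) t

/-- the flip `[[a,b],[c,d]] ↦ [[d,c],[b,a]]` (conjugation by the permutation matrix of `(0 1)`). -/
def flip2F (A : Matrix.SpecialLinearGroup (Fin 2) F) : Matrix.SpecialLinearGroup (Fin 2) F :=
  ⟨!![A.1 1 1, A.1 1 0; A.1 0 1, A.1 0 0], by
    have h := A.2
    rw [Matrix.det_fin_two] at h
    rw [Matrix.det_fin_two_of]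
    linear_combination h⟩

theorem flip2F_coe (A : Matrix.SpecialLinearGroup (Fin 2) F) :
    (flip2F A : Matrix (Fin 2) (Fin 2) F) = !![A.1 1 1, A.1 1 0; A.1 0 1, A.1 0 0] := rfl

/-- the flip as a homomorphism. -/
def flip2 : Matrix.SpecialLinearGroup (Fin 2) F →* Matrix.SpecialLinearGroup (Fin 2) F where
  toFun := flip2F
  map_one' := by
    apply Subtype.ext
    rw [flip2F_coe]
    ext i j
    fin_cases i <;> fin_cases j <;> simp
  map_mul' A B := by
    apply Subtype.ext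
    simp only [Matrix.SpecialLinearGroup.coe_mul, flip2F_coe]
    ext i j
    fin_cases i <;> fin_cases j <;>
      simp [Matrix.mul_apply, Fin.sum_univ_two, add_comm]

/-- the block embedding `A ↦ diag(A, 1)` of `SL₂` into `SL₃`. -/
def emb23F (A : Matrix.SpecialLinearGroup (Fin 2) F) : Matrix.SpecialLinearGroup (Fin 3) F :=
  ⟨!![A.1 0 0, A.1 0 1, 0; A.1 1 0, A.1 1 1, 0; 0, 0, 1], by
    have h := A.2
    rw [Matrix.det_fin_two] at h
    rw [Matrix.det_fin_three]
    simp
    linear_combination h⟩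

theorem emb23F_coe (A : Matrix.SpecialLinearGroup (Fin 2) F) :
    (emb23F A : Matrix (Fin 3) (Fin 3) F) = !![A.1 0 0, A.1 0 1, 0; A.1 1 0, A.1 1 1, 0; 0, 0, 1] := rfl

/-- the block embedding as a homomorphism. -/
def emb23 : Matrix.SpecialLinearGroup (Fin 2) F →* Matrix.SpecialLinearGroup (Fin 3) F where
  toFun := emb23F
  map_one' := by
    apply Subtype.ext
    rw [emb23F_coe]
    ext i j
    fin_cases i <;> fin_cases j <;> simp
  map_mul' A B := by
    apply Subtype.ext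
    simp only [Matrix.SpecialLinearGroup.coe_mul, emb23F_coe]
    ext i j
    fin_cases i <;> fin_cases j <;>
      simp [Matrix.mul_apply, Fin.sum_univ_two, Fin.sum_univ_three]

/-- the permutation matrix of the 3-cycle `e₀ ↦ e₁ ↦ e₂ ↦ e₀`. -/
def cM : Matrix.SpecialLinearGroup (Fin 3) F :=
  ⟨!![0, 0, 1; 1, 0, 0; 0, 1, 0], by simp [Matrix.det_fin_three]⟩

theorem cM_coe : ((cM : Matrix.SpecialLinearGroup (Fin 3) F) : Matrix (Fin 3) (Fin 3) F) =
    !![0, 0, 1; 1, 0, 0; 0, 1, 0] := rfl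

end Mat

/-! ## Permutations of `Fin (M + 4)` -/

section Perm

variable (M : ℕ)

/-- the indices `0 1 2 3` of `Fin (M + 4)`. -/
def i0 : Fin (M + 4) := ⟨0, by omega⟩
def i1 : Fin (M + 4) := ⟨1, by omega⟩
def i2 : Fin (M + 4) := ⟨2, by omega⟩
def i3 : Fin (M + 4) := ⟨3, by omega⟩

theorem i01 : i0 M ≠ i1 M := by simp [i0, i1]
theorem i02 : i0 M ≠ i2 M := by simp [i0, i2]
theorem i03 : i0 M ≠ i3 M := by simp [i0, i3]
theorem i12 : i1 M ≠ i2 M := by simp [i1, i2]
theorem i13 : i1 M ≠ i3 M := by simp [i1, i3]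
theorem i23 : i2 M ≠ i3 M := by simp [i2, i3]

/-- the inclusion `Fin 3 → Fin (M + 4)`. -/
def inc (a : Fin 3) : Fin (M + 4) := ⟨a, by omega⟩

theorem inc_injective : Function.Injective (inc M) := by
  intro a b h
  apply Fin.ext
  simpa [inc] using congrArg Fin.val h

theorem inc_zero : inc M 0 = i0 M := rfl
theorem inc_one : inc M 1 = i1 M := rfl
theorem inc_two : inc M 2 = i2 M := rfl

/-- the 3-cycle `0 ↦ 1 ↦ 2 ↦ 0`. -/
def c3 : alternatingGroup (Fin (M + 4)) :=
  ⟨swap (i0 M) (i1 M) * swap (i1 M) (i2 M), by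
    rw [Equiv.Perm.mem_alternatingGroup, Equiv.Perm.sign_mul, Equiv.Perm.sign_swap (i01 M),
      Equiv.Perm.sign_swap (i12 M)]; norm_num⟩

/-- `(0 1)(2 3)`. -/
def t23 : alternatingGroup (Fin (M + 4)) :=
  ⟨swap (i0 M) (i1 M) * swap (i2 M) (i3 M), by
    rw [Equiv.Perm.mem_alternatingGroup, Equiv.Perm.sign_mul, Equiv.Perm.sign_swap (i01 M),
      Equiv.Perm.sign_swap (i23 M)]; norm_num⟩

/-- `(0 2)(1 3)`. -/
def rho : alternatingGroup (Fin (M + 4)) :=
  ⟨swap (i0 M) (i2 M) * swap (i1 M) (i3 M), by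
    rw [Equiv.Perm.mem_alternatingGroup, Equiv.Perm.sign_mul, Equiv.Perm.sign_swap (i02 M),
      Equiv.Perm.sign_swap (i13 M)]; norm_num⟩

theorem c3_coe : ((c3 M : alternatingGroup (Fin (M + 4))) : Equiv.Perm (Fin (M + 4))) =
    swap (i0 M) (i1 M) * swap (i1 M) (i2 M) := rfl

theorem t23_coe : ((t23 M : alternatingGroup (Fin (M + 4))) : Equiv.Perm (Fin (M + 4))) =
    swap (i0 M) (i1 M) * swap (i2 M) (i3 M) := rfl

theorem rho_coe : ((rho M : alternatingGroup (Fin (M + 4))) : Equiv.Perm (Fin (M + 4))) =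
    swap (i0 M) (i2 M) * swap (i1 M) (i3 M) := rfl

/-- the pointwise stabiliser of `0` and `1` in `A_(M+4)`. -/
def stab01 : Subgroup (alternatingGroup (Fin (M + 4))) where
  carrier := {τ | (τ : Equiv.Perm (Fin (M + 4))) (i0 M) = i0 M ∧ (τ : Equiv.Perm (Fin (M + 4))) (i1 M) = i1 M}
  one_mem' := by simp
  mul_mem' := by
    rintro a b ⟨ha0, ha1⟩ ⟨hb0, hb1⟩
    constructor
    · show ((a * b : alternatingGroup (Fin (M + 4))) : Equiv.Perm (Fin (M + 4))) (i0 M) = i0 M
      rw [Subgroup.coe_mul, Equiv.Perm.mul_apply, hb0, ha0]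
    · show ((a * b : alternatingGroup (Fin (M + 4))) : Equiv.Perm (Fin (M + 4))) (i1 M) = i1 M
      rw [Subgroup.coe_mul, Equiv.Perm.mul_apply, hb1, ha1]
  inv_mem' := by
    rintro a ⟨ha0, ha1⟩
    constructor
    · show ((a⁻¹ : alternatingGroup (Fin (M + 4))) : Equiv.Perm (Fin (M + 4))) (i0 M) = i0 M
      rw [Subgroup.coe_inv, Equiv.Perm.inv_eq_iff_eq, ha0]
    · show ((a⁻¹ : alternatingGroup (Fin (M + 4))) : Equiv.Perm (Fin (M + 4))) (i1 M) = i1 M
      rw [Subgroup.coe_inv, Equiv.Perm.inv_eq_iff_eq, ha1]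

theorem mem_stab01 (τ : alternatingGroup (Fin (M + 4))) :
    τ ∈ stab01 M ↔ (τ : Equiv.Perm (Fin (M + 4))) (i0 M) = i0 M ∧
      (τ : Equiv.Perm (Fin (M + 4))) (i1 M) = i1 M := Iff.rfl

end Perm

/-! ## The model: permutation matrices and the `3 × 3` block in `SL_(M+4)(F)` -/

section Model

variable {F : Type u} [Field F]

/-- the permutation matrix of an even permutation `σ` (it maps `e_j` to `e_(σ j)`). -/
def permSLF {n : ℕ} (σ : alternatingGroup (Fin n)) : Matrix.SpecialLinearGroup (Fin n) F :=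
  ⟨Equiv.Perm.permMatrix F ((σ : Equiv.Perm (Fin n))⁻¹), by
    rw [Matrix.det_permutation, Equiv.Perm.sign_inv, Equiv.Perm.mem_alternatingGroup.1 σ.2]; simp⟩

theorem permSLF_apply {n : ℕ} (σ : alternatingGroup (Fin n)) (i j : Fin n) :
    (permSLF (F := F) σ : Matrix (Fin n) (Fin n) F) i j =
      if i = (σ : Equiv.Perm (Fin n)) j then 1 else 0 := by
  simp only [permSLF, Equiv.Perm.permMatrix, PEquiv.toMatrix_apply, Equiv.toPEquiv_apply, Option.mem_def,
    Option.some.injEq]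
  by_cases h : i = (σ : Equiv.Perm (Fin n)) j
  · simp [h]
  · have : ¬ ((Equiv.symm (σ : Equiv.Perm (Fin n))) i = j) := by
      intro h'; apply h; rw [← h']; simp
    simp [h, this]

/-- `A_n → SL_n(F)`, permutation matrices. -/
def alphaM {n : ℕ} : alternatingGroup (Fin n) →* Matrix.SpecialLinearGroup (Fin n) F where
  toFun := permSLF
  map_one' := by
    apply Subtype.ext
    ext i j
    rw [permSLF_apply]
    by_cases h : i = j <;> simp [h]
  map_mul' σ τ := by
    apply Subtype.ext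
    ext i j
    rw [Matrix.SpecialLinearGroup.coe_mul, Matrix.mul_apply, permSLF_apply]
    simp only [permSLF_apply]
    rw [Finset.sum_eq_single ((τ : Equiv.Perm (Fin n)) j)]
    · by_cases h : i = (σ : Equiv.Perm (Fin n)) ((τ : Equiv.Perm (Fin n)) j) <;> simp [h]
    · intro b _ hb
      simp [hb]
    · intro h; exact absurd (Finset.mem_univ _) h

theorem alphaM_apply {n : ℕ} (σ : alternatingGroup (Fin n)) (i j : Fin n) :
    (alphaM (F := F) σ : Matrix (Fin n) (Fin n) F) i j =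
      if i = (σ : Equiv.Perm (Fin n)) j then 1 else 0 := permSLF_apply σ i j

variable (M : ℕ)

/-- `Fin 3 ⊕ Fin (M+1) ≃ Fin (M+4)`, the first three indices first. -/
def eBlk : Fin 3 ⊕ Fin (M + 1) ≃ Fin (M + 4) :=
  finSumFinEquiv.trans (finCongr (by omega))

theorem eBlk_inl (a : Fin 3) : ((eBlk M (Sum.inl a) : Fin (M + 4)) : ℕ) = a := by
  simp [eBlk]

theorem eBlk_inr (b : Fin (M + 1)) : ((eBlk M (Sum.inr b) : Fin (M + 4)) : ℕ) = 3 + b := by
  simp [eBlk, add_comm]

/-- `A ↦ diag(A, 1)`. -/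
def betaMF (A : Matrix.SpecialLinearGroup (Fin 3) F) : Matrix.SpecialLinearGroup (Fin (M + 4)) F :=
  ⟨Matrix.reindex (eBlk M) (eBlk M) (Matrix.fromBlocks A.1 0 0 1), by
    rw [Matrix.det_reindex_self, Matrix.det_fromBlocks_zero₂₁, A.2, Matrix.det_one, one_mul]⟩

/-- the block embedding `SL₃(F) → SL_(M+4)(F)` on the first three coordinates. -/
def betaM : Matrix.SpecialLinearGroup (Fin 3) F →* Matrix.SpecialLinearGroup (Fin (M + 4)) F where
  toFun := betaMF M
  map_one' := by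
    apply Subtype.ext
    simp only [betaMF, Matrix.SpecialLinearGroup.coe_one, Matrix.fromBlocks_one]
    simp
  map_mul' A B := by
    apply Subtype.ext
    rw [Matrix.SpecialLinearGroup.coe_mul]
    show Matrix.reindex (eBlk M) (eBlk M) (Matrix.fromBlocks (A * B).1 0 0 1) =
      Matrix.reindex (eBlk M) (eBlk M) (Matrix.fromBlocks A.1 0 0 1) *
        Matrix.reindex (eBlk M) (eBlk M) (Matrix.fromBlocks B.1 0 0 1)
    simp only [Matrix.reindex_apply]
    rw [Matrix.submatrix_mul_equiv, Matrix.fromBlocks_multiply]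
    simp

/-- the entries of `betaM A`. -/
theorem betaM_apply (A : Matrix.SpecialLinearGroup (Fin 3) F) (i j : Fin (M + 4)) :
    (betaM M A : Matrix (Fin (M + 4)) (Fin (M + 4)) F) i j =
      if h : (i : ℕ) < 3 ∧ (j : ℕ) < 3 then A.1 ⟨i, h.1⟩ ⟨j, h.2⟩ else if i = j then 1 else 0 := by
  show (betaMF M A : Matrix (Fin (M + 4)) (Fin (M + 4)) F) i j = _
  simp only [betaMF, Matrix.reindex_apply, Matrix.submatrix_apply]
  obtain ⟨x, rfl⟩ := (eBlk M).surjective i
  obtain ⟨y, rfl⟩ := (eBlk M).surjective j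
  simp only [Equiv.symm_apply_apply]
  rcases x with a | b <;> rcases y with a' | b'
  · have h1 := eBlk_inl M a
    have h2 := eBlk_inl M a'
    have h : ((eBlk M (Sum.inl a) : Fin (M + 4)) : ℕ) < 3 ∧
        ((eBlk M (Sum.inl a') : Fin (M + 4)) : ℕ) < 3 := by
      rw [h1, h2]; exact ⟨a.2, a'.2⟩
    rw [dif_pos h]
    simp only [Matrix.fromBlocks_apply₁₁]
    have e1 : (⟨((eBlk M (Sum.inl a) : Fin (M + 4)) : ℕ), h.1⟩ : Fin 3) = a := Fin.ext h1
    have e2 : (⟨((eBlk M (Sum.inl a') : Fin (M + 4)) : ℕ), h.2⟩ : Fin 3) = a' := Fin.ext h2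
    rw [e1, e2]
  · have h2 := eBlk_inr M b'
    have h : ¬ (((eBlk M (Sum.inl a) : Fin (M + 4)) : ℕ) < 3 ∧
        ((eBlk M (Sum.inr b') : Fin (M + 4)) : ℕ) < 3) := by
      rw [h2]; omega
    rw [dif_neg h]
    have hne : eBlk M (Sum.inl a) ≠ eBlk M (Sum.inr b') := by
      intro e; have := (eBlk M).injective e; simp at this
    simp [hne]
  · have h1 := eBlk_inr M b
    have h : ¬ (((eBlk M (Sum.inr b) : Fin (M + 4)) : ℕ) < 3 ∧
        ((eBlk M (Sum.inl a') : Fin (M + 4)) : ℕ) < 3) := by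
      rw [h1]; omega
    rw [dif_neg h]
    have hne : eBlk M (Sum.inr b) ≠ eBlk M (Sum.inl a') := by
      intro e; have := (eBlk M).injective e; simp at this
    simp [hne]
  · have h1 := eBlk_inr M b
    have h : ¬ (((eBlk M (Sum.inr b) : Fin (M + 4)) : ℕ) < 3 ∧
        ((eBlk M (Sum.inr b') : Fin (M + 4)) : ℕ) < 3) := by
      rw [h1]; omega
    rw [dif_neg h]
    simp only [Matrix.fromBlocks_apply₂₂, Matrix.one_apply]
    by_cases hb : b = b'
    · simp [hb]
    · have hne : eBlk M (Sum.inr b) ≠ eBlk M (Sum.inr b') := by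
        intro e; have := (eBlk M).injective e; simp at this; exact hb this
      simp [hb, hne]

end Model

/-! ## Gluing `A_(M+4)` and `SL₃(F)` -/

section Glue

open Cfsg.Agent.Lib.helper17.SLP

variable {F : Type u} [Field F] (M : ℕ) {G : Type v} [Group G]

/-- The gluing relations between `α : A_(M+4) → G` and `β : SL₃(F) → G` (`L₀₁ = β (emb23 (SL₂(F)))`):
`g2` identifies the 3-cycle, `g3`: `(0 1)(2 3)` flips `L₀₁`, `g4`: the pointwise stabiliser of `0, 1` centralises `L₀₁`,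
`g5`: `L₀₁` commutes with its conjugate under `(0 2)(1 3)`. -/
structure Glue (α : alternatingGroup (Fin (M + 4)) →* G)
    (β : Matrix.SpecialLinearGroup (Fin 3) F →* G) : Prop where
  g2 : α (c3 M) = β cM
  g3 : ∀ m : Matrix.SpecialLinearGroup (Fin 2) F,
    α (t23 M) * β (emb23 m) * (α (t23 M))⁻¹ = β (emb23 (flip2 m))
  g4 : ∀ τ ∈ stab01 M, ∀ m : Matrix.SpecialLinearGroup (Fin 2) F,
    α τ * β (emb23 m) * (α τ)⁻¹ = β (emb23 m)
  g5 : ∀ m m' : Matrix.SpecialLinearGroup (Fin 2) F,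
    Commute (β (emb23 m)) (α (rho M) * β (emb23 m') * (α (rho M))⁻¹)

open Classical in
/-- the root maps of the glued group: `gX i j t = α σ * β (emb23 (xU t)) * (α σ)⁻¹` for some even `σ` with `σ 0 = i`, `σ 1 = j`
(`1` if there is none, i.e. if `i = j`). -/
noncomputable def gX (α : alternatingGroup (Fin (M + 4)) →* G)
    (β : Matrix.SpecialLinearGroup (Fin 3) F →* G) (i j : Fin (M + 4)) (t : F) : G :=
  if h : ∃ σ : alternatingGroup (Fin (M + 4)),
      (σ : Equiv.Perm (Fin (M + 4))) (i0 M) = i ∧ (σ : Equiv.Perm (Fin (M + 4))) (i1 M) = j then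
    α h.choose * β (emb23 (xU t)) * (α h.choose)⁻¹
  else 1

/-- the three generators `x(1)`, `h(ζ)`, `w` of `SL₂(F)` (`SLP.Defs`). -/
def gens2 (ζ : Fˣ) : List (Matrix.SpecialLinearGroup (Fin 2) F) := [xM (1 : F), hM ζ, wM]

/-- the gluing relators, as elements of the free product `A_(M+4) ∗ SL₃(F)`: `1 + 3 + 3 * |Z| + 9` of them
(`Z` a list of generators of `stab01 M`). -/
def glueList (ζ : Fˣ) (Z : List (alternatingGroup (Fin (M + 4)))) :
    List (Monoid.Coprod (alternatingGroup (Fin (M + 4))) (Matrix.SpecialLinearGroup (Fin 3) F)) :=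
  [Monoid.Coprod.inl (c3 M) * (Monoid.Coprod.inr cM)⁻¹] ++
  (gens2 ζ).map (fun m => Monoid.Coprod.inl (t23 M) * Monoid.Coprod.inr (emb23 m) *
    (Monoid.Coprod.inl (t23 M))⁻¹ * (Monoid.Coprod.inr (emb23 (flip2 m)))⁻¹) ++
  (Z ×ˢ gens2 ζ).map (fun p => Monoid.Coprod.inl p.1 * Monoid.Coprod.inr (emb23 p.2) *
    (Monoid.Coprod.inl p.1)⁻¹ * (Monoid.Coprod.inr (emb23 p.2))⁻¹) ++
  (gens2 ζ ×ˢ gens2 ζ).map (fun p => Monoid.Coprod.inr (emb23 p.1) *
    (Monoid.Coprod.inl (rho M) * Monoid.Coprod.inr (emb23 p.2) * (Monoid.Coprod.inl (rho M))⁻¹) *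
    (Monoid.Coprod.inr (emb23 p.1))⁻¹ *
    (Monoid.Coprod.inl (rho M) * Monoid.Coprod.inr (emb23 p.2) * (Monoid.Coprod.inl (rho M))⁻¹)⁻¹)

theorem glueList_length (ζ : Fˣ) (Z : List (alternatingGroup (Fin (M + 4)))) :
    (glueList (F := F) M ζ Z).length = 13 + 3 * Z.length := by
  simp only [glueList, List.length_append, List.length_map, List.length_product,
    List.length_cons, List.length_nil]
  have : (gens2 (F := F) ζ).length = 3 := rfl
  rw [this]
  omega

end Glue

end Cfsg.Agent.Lib.Helper1.SLN
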