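import Mathlib
import Cfsg.Agent.Lib.Helper1.SLN.Defs

/-!
# Project SL7 (designer helper1), second phase: S2288 (10u) — `SL_n(F)`, `n ≥ 4`: 7 generators, at most 25 relators.

Extra definitions: the flip matrix `fM`, the torus elements `etaM`, `dM`, `hh`, the weakened gluing hypothesis `Glue3`
(= `Glue` without `g5`), the hypotheses `NuHyp` on a pair of even permutations, the index `i4` and a few explicit even permutations.
-/

set_option autoImplicit false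

namespace Cfsg.Agent.Lib.Helper1.SLN

open Matrix Equiv

universe u v

section Mat

variable {F : Type u} [Field F]

/-- `fM = -(P_(0 1) ⊕ 1)`: conjugation by `fM` swaps the indices `0` and `1`; `fM * fM = 1`. -/
def fM : Matrix.SpecialLinearGroup (Fin 3) F :=
  ⟨!![0, -1, 0; -1, 0, 0; 0, 0, -1], by simp [Matrix.det_fin_three]⟩

theorem fM_coe : ((fM : Matrix.SpecialLinearGroup (Fin 3) F) : Matrix (Fin 3) (Fin 3) F) =
    !![0, -1, 0; -1, 0, 0; 0, 0, -1] := rfl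

/-- `etaM s = diag(s, s, s⁻²)`, it commutes with `emb23 (xU t)`. -/
def etaM (s : Fˣ) : Matrix.SpecialLinearGroup (Fin 3) F :=
  ⟨!![(s : F), 0, 0; 0, (s : F), 0; 0, 0, ((s⁻¹ : Fˣ) : F) * ((s⁻¹ : Fˣ) : F)], by
    have h : (s : F) * ((s⁻¹ : Fˣ) : F) = 1 := by simp
    rw [Matrix.det_fin_three]
    simp only [Matrix.of_apply, Matrix.cons_val', Matrix.cons_val_zero, Matrix.cons_val_one,
      Matrix.cons_val_fin_one, Matrix.cons_val]
    linear_combination ((s : F) * ((s⁻¹ : Fˣ) : F) + 1) * h⟩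

theorem etaM_coe (s : Fˣ) : ((etaM s : Matrix.SpecialLinearGroup (Fin 3) F) : Matrix (Fin 3) (Fin 3) F) =
    !![(s : F), 0, 0; 0, (s : F), 0; 0, 0, ((s⁻¹ : Fˣ) : F) * ((s⁻¹ : Fˣ) : F)] := rfl

/-- `dM s = diag(s, 1, s⁻¹)`. -/
def dM (s : Fˣ) : Matrix.SpecialLinearGroup (Fin 3) F :=
  ⟨!![(s : F), 0, 0; 0, 1, 0; 0, 0, ((s⁻¹ : Fˣ) : F)], by simp [Matrix.det_fin_three]⟩

theorem dM_coe (s : Fˣ) : ((dM s : Matrix.SpecialLinearGroup (Fin 3) F) : Matrix (Fin 3) (Fin 3) F) =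
    !![(s : F), 0, 0; 0, 1, 0; 0, 0, ((s⁻¹ : Fˣ) : F)] := rfl

/-- the Weyl word `x_ab(s) x_ba(-s⁻¹) x_ab(s)`. -/
def wW (a b : Fin 3) (h : a ≠ b) (s : Fˣ) : Matrix.SpecialLinearGroup (Fin 3) F :=
  Matrix.SpecialLinearGroup.transvection h (s : F) *
    Matrix.SpecialLinearGroup.transvection h.symm (-((s⁻¹ : Fˣ) : F)) *
    Matrix.SpecialLinearGroup.transvection h (s : F)

/-- the torus word `h_ab(s) = w_ab(s) w_ab(1)⁻¹` (`= diag` with `s` at `a`, `s⁻¹` at `b`, row H1). -/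
def hh (a b : Fin 3) (h : a ≠ b) (s : Fˣ) : Matrix.SpecialLinearGroup (Fin 3) F :=
  wW a b h s * (wW a b h 1)⁻¹

/-- the diagonal entries of `hh a b h s`. -/
def dg (a b : Fin 3) (s : Fˣ) (i : Fin 3) : Fˣ := if i = a then s else if i = b then s⁻¹ else 1

end Mat

section Perm

variable (M : ℕ)

/-- the index `4` of `Fin (M + 1 + 4)`. -/
def i4 : Fin (M + 1 + 4) := ⟨4, by omega⟩

theorem i24 : i2 (M + 1) ≠ i4 M := by simp [i2, i4]
theorem i34 : i3 (M + 1) ≠ i4 M := by simp [i3, i4]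

/-- the 3-cycle `2 ↦ 3 ↦ 4 ↦ 2` of `Fin (M + 1 + 4)`. -/
def x234 : alternatingGroup (Fin (M + 1 + 4)) :=
  ⟨swap (i2 (M + 1)) (i3 (M + 1)) * swap (i3 (M + 1)) (i4 M), by
    rw [Equiv.Perm.mem_alternatingGroup, Equiv.Perm.sign_mul, Equiv.Perm.sign_swap (i23 (M + 1)),
      Equiv.Perm.sign_swap (i34 M)]; norm_num⟩

theorem x234_coe : ((x234 M : alternatingGroup (Fin (M + 1 + 4))) : Equiv.Perm (Fin (M + 1 + 4))) =
    swap (i2 (M + 1)) (i3 (M + 1)) * swap (i3 (M + 1)) (i4 M) := rfl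

/-- `σ₁ : 0 ↦ 0, 1 ↦ 2, 2 ↦ 3, 3 ↦ 1`. -/
def sg1 : alternatingGroup (Fin (M + 4)) :=
  ⟨swap (i1 M) (i2 M) * swap (i2 M) (i3 M), by
    rw [Equiv.Perm.mem_alternatingGroup, Equiv.Perm.sign_mul, Equiv.Perm.sign_swap (i12 M),
      Equiv.Perm.sign_swap (i23 M)]; norm_num⟩

/-- `σ₂ : 0 ↦ 2, 1 ↦ 1, 2 ↦ 3, 3 ↦ 0`. -/
def sg2 : alternatingGroup (Fin (M + 4)) :=
  ⟨swap (i0 M) (i2 M) * swap (i2 M) (i3 M), by
    rw [Equiv.Perm.mem_alternatingGroup, Equiv.Perm.sign_mul, Equiv.Perm.sign_swap (i02 M),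
      Equiv.Perm.sign_swap (i23 M)]; norm_num⟩

theorem sg1_coe : ((sg1 M : alternatingGroup (Fin (M + 4))) : Equiv.Perm (Fin (M + 4))) =
    swap (i1 M) (i2 M) * swap (i2 M) (i3 M) := rfl

theorem sg2_coe : ((sg2 M : alternatingGroup (Fin (M + 4))) : Equiv.Perm (Fin (M + 4))) =
    swap (i0 M) (i2 M) * swap (i2 M) (i3 M) := rfl

/-- the 3-cycle `a ↦ b ↦ c ↦ a` as an even permutation. -/
def tc {n : ℕ} (a b c : Fin n) (hab : a ≠ b) (hbc : b ≠ c) : alternatingGroup (Fin n) :=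
  ⟨swap a b * swap b c, by
    rw [Equiv.Perm.mem_alternatingGroup, Equiv.Perm.sign_mul, Equiv.Perm.sign_swap hab,
      Equiv.Perm.sign_swap hbc]; norm_num⟩

theorem tc_coe {n : ℕ} (a b c : Fin n) (hab : a ≠ b) (hbc : b ≠ c) :
    ((tc a b c hab hbc : alternatingGroup (Fin n)) : Equiv.Perm (Fin n)) = swap a b * swap b c := rfl

/-- The hypotheses on the pair `ν x` of even permutations of `Fin (M + 4)`: `ν` swaps `0, 1` and fixes `2`; `x` fixes `0, 1`;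
every subgroup containing `x` and `ν²` and stable under conjugation by `ν` contains the pointwise stabiliser of `0, 1`. -/
structure NuHyp (ν x : alternatingGroup (Fin (M + 4))) : Prop where
  h0 : (ν : Equiv.Perm (Fin (M + 4))) (i0 M) = i1 M
  h1 : (ν : Equiv.Perm (Fin (M + 4))) (i1 M) = i0 M
  h2 : (ν : Equiv.Perm (Fin (M + 4))) (i2 M) = i2 M
  hx : x ∈ stab01 M
  gen : ∀ S : Subgroup (alternatingGroup (Fin (M + 4))), x ∈ S → ν * ν ∈ S →
    (∀ τ ∈ S, ν * τ * ν⁻¹ ∈ S) → stab01 M ≤ S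

end Perm

section Glue

variable {F : Type u} [Field F] (M : ℕ) {G : Type v} [Group G]

/-- `Glue` without the commutation `g5`. -/
structure Glue3 (α : alternatingGroup (Fin (M + 4)) →* G)
    (β : Matrix.SpecialLinearGroup (Fin 3) F →* G) : Prop where
  g2 : α (c3 M) = β cM
  g3 : ∀ m : Matrix.SpecialLinearGroup (Fin 2) F,
    α (t23 M) * β (emb23 m) * (α (t23 M))⁻¹ = β (emb23 (flip2 m))
  g4 : ∀ τ ∈ stab01 M, ∀ m : Matrix.SpecialLinearGroup (Fin 2) F,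
    α τ * β (emb23 m) * (α τ)⁻¹ = β (emb23 m)

theorem Glue.toGlue3 {α : alternatingGroup (Fin (M + 4)) →* G}
    {β : Matrix.SpecialLinearGroup (Fin 3) F →* G} (H : Glue M α β) : Glue3 M α β :=
  ⟨H.g2, H.g3, H.g4⟩

theorem Glue3.toGlue {α : alternatingGroup (Fin (M + 4)) →* G}
    {β : Matrix.SpecialLinearGroup (Fin 3) F →* G} (H : Glue3 M α β)
    (h5 : ∀ m m' : Matrix.SpecialLinearGroup (Fin 2) F,
      Commute (β (emb23 m)) (α (rho M) * β (emb23 m') * (α (rho M))⁻¹)) : Glue M α β :=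
  ⟨H.g2, H.g3, H.g4, h5⟩

end Glue

end Cfsg.Agent.Lib.Helper1.SLN
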